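import Groth.Agent.Etdl.H432.Un

/-!
# The embedding of `F = G_m(m)` in an injective sheaf

`0 ⟶ F ⟶ I ⟶ Q ⟶ 0`, elementwise.
-/

set_option autoImplicit false
universe u
open CategoryTheory CategoryTheory.Limits AlgebraicGeometry Opposite

noncomputable section

namespace Groth.Agent.Etdl.H432.IQ

open Sec Un

section General

variable {X : Scheme.{u}} {A B C : EtFppf.AbF X}

/-- Left exactness of sections: a section of `B` killed by `g` comes from the kernel. -/
theorem exists_of_exact {f : A ⟶ B} {g : B ⟶ C} (w : f ≫ g = 0) (hS : (ShortComplex.mk f g w).Exact) [Mono f]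
    {U : Over X} (b : Γs B U) (hb : m g U b = 0) : ∃ a : Γs A U, m f U a = b := by
  let p := Etcore.ZU.isGen_gen.{u+1} (J := EtFppf.J X) U
  have h2 : p.desc b ≫ g = 0 := by
    apply p.hom_ext
    rw [p.desc_comp, p.desc_app]
    exact hb
  have : Mono (ShortComplex.mk f g w).f := inferInstanceAs (Mono f)
  let l := hS.lift (p.desc b) h2
  refine ⟨l.hom.app (op U) (Etcore.ZU.gen.{u+1} (EtFppf.J X) U), ?_⟩
  have h4 : l ≫ f = p.desc b := hS.lift_f (p.desc b) h2
  have h5 := congrArg (fun φ => φ.hom.app (op U) (Etcore.ZU.gen.{u+1} (EtFppf.J X) U)) h4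
  simp only [p.desc_app] at h5
  exact h5

/-- Sections of an injective sheaf extend along monomorphisms. -/
theorem exists_extend (I : EtFppf.AbF X) [Injective I] {U V : Over X} (g : V ⟶ U) [Mono g] (s : Γs I V) :
    ∃ t : Γs I U, r I g t = s := by
  let p := Etcore.ZU.isGen_gen.{u+1} (J := EtFppf.J X) U
  let p' := Etcore.ZU.isGen_gen.{u+1} (J := EtFppf.J X) V
  let φ := Injective.factorThru (p'.desc s) (Etcore.ZU.Zmap.{u+1} (EtFppf.J X) g)
  refine ⟨φ.hom.app (op U) (Etcore.ZU.gen.{u+1} (EtFppf.J X) U), ?_⟩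
  have h1 : Etcore.ZU.Zmap.{u+1} (EtFppf.J X) g ≫ φ = p'.desc s := Injective.comp_factorThru _ _
  have h2 : φ = p.desc (φ.hom.app (op U) (Etcore.ZU.gen.{u+1} (EtFppf.J X) U)) := (p.desc_eq φ).symm
  rw [h2, Etcore.ZU.Zmap_desc] at h1
  have h5 := congrArg (fun φ => φ.hom.app (op V) (Etcore.ZU.gen.{u+1} (EtFppf.J X) V)) h1
  simp only [p'.desc_app] at h5
  exact h5

end General

variable {X Y : Scheme.{u}} (i : Y ⟶ X)

/-- An injective sheaf containing `F`. -/
def I : EtFppf.AbF X := Injective.under (F i)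

instance : Injective (I i) := inferInstanceAs (Injective (Injective.under (F i)))

/-- The inclusion `F ⟶ I`. -/
def α : F i ⟶ I i := Injective.ι (F i)

instance : Mono (α i) := inferInstanceAs (Mono (Injective.ι (F i)))

/-- The quotient `I / F`. -/
def Q : EtFppf.AbF X := cokernel (α i)

/-- The projection. -/
def β : I i ⟶ Q i := cokernel.π (α i)

instance : Epi (β i) := inferInstanceAs (Epi (cokernel.π (α i)))

theorem αβ : α i ≫ β i = 0 := cokernel.condition _

theorem shortExact : (ShortComplex.mk (α i) (β i) (αβ i)).ShortExact where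
  exact := ShortComplex.exact_cokernel _
  mono_f := inferInstanceAs (Mono (α i))
  epi_g := inferInstanceAs (Epi (β i))

variable {i}

@[simp] theorem β_α {U : Over X} (s : Γs (F i) U) : m (β i) U (m (α i) U s) = 0 := by
  rw [← m_comp, αβ, m_zero]

theorem α_injective {U : Over X} : Function.Injective (m (α i) U) := mono_injective _ U

theorem exists_α {U : Over X} (b : Γs (I i) U) (hb : m (β i) U b = 0) : ∃ s : Γs (F i) U, m (α i) U s = b :=
  exists_of_exact (αβ i) (shortExact i).exact b hb

theorem exists_α_sub {U : Over X} (b b' : Γs (I i) U) (h : m (β i) U b = m (β i) U b') :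
    ∃ s : Γs (F i) U, b' = b + m (α i) U s := by
  obtain ⟨s, hs⟩ := exists_α (b' - b) (by rw [map_sub, h, sub_self])
  exact ⟨s, by rw [hs]; abel⟩

/-- Local lifts of sections of `Q`. -/
theorem exists_β {U : Over X} (q : Γs (Q i) U) (x : U.left) :
    ∃ (V : Over X) (g : V ⟶ U) (b : Γs (I i) V), Flat g.left ∧ LocallyOfFinitePresentation g.left ∧
      x ∈ Set.range g.left ∧ m (β i) V b = r (Q i) g q :=
  exists_lift (β i) q x

end Groth.Agent.Etdl.H432.IQ
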