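import Groth.Agent.Etdl.H432.IQ

/-!
# Sections of the rigidified line bundle attached to a section of `Q = I / F`

`q ∈ Q(Z)` defines an `F`-torsor `P_q`: the local lifts `b` of `q` to `I`.  A section of the associated
rigidified line bundle is a function `val` on local lifts, `val (b + u) = u⁻¹ val b`, compatible with restriction
and `≡ 1` along `Y`.
-/

set_option autoImplicit false
set_option linter.unusedVariables false
universe u
open CategoryTheory CategoryTheory.Limits AlgebraicGeometry Opposite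

noncomputable section

namespace Groth.Agent.Etdl.H432.LS

open Sec Un IQ

variable {X Y : Scheme.{u}} {i : Y ⟶ X}

/-- `b` lifts the restriction of `q` along `g`. -/
def IsLift {Z : Over X} (q : Γs (Q i) Z) {U : Over X} (g : U ⟶ Z) (b : Γs (I i) U) : Prop :=
  m (β i) U b = r (Q i) g q

namespace IsLift

variable {Z : Over X} {q q' : Γs (Q i) Z} {U V : Over X} {g : U ⟶ Z} {b b' : Γs (I i) U}

theorem res (h : IsLift q g b) (k : V ⟶ U) : IsLift q (k ≫ g) (r (I i) k b) := by
  rw [IsLift, m_r, h, r_r]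

theorem res' (h : IsLift q g b) (k : V ⟶ U) {g' : V ⟶ Z} (hg : k ≫ g = g') : IsLift q g' (r (I i) k b) :=
  hg ▸ h.res k

theorem add_α (h : IsLift q g b) (s : Γs (F i) U) : IsLift q g (b + m (α i) U s) := by
  rw [IsLift, map_add, β_α, add_zero]
  exact h

theorem add (h : IsLift q g b) (h' : IsLift q' g b') : IsLift (q + q') g (b + b') := by
  rw [IsLift, map_add, map_add, h, h']

theorem sub (h : IsLift q g b) (h' : IsLift q' g b') : IsLift (q - q') g (b - b') := by
  rw [IsLift, map_sub, map_sub, h, h']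

theorem exists_eq (h : IsLift q g b) (h' : IsLift q g b') : ∃ s : Γs (F i) U, b' = b + m (α i) U s :=
  exists_α_sub b b' (h.trans h'.symm)

/-- The difference of two lifts. -/
def diff (h : IsLift q g b) (h' : IsLift q g b') : Γs (F i) U := (h.exists_eq h').choose

theorem diff_spec (h : IsLift q g b) (h' : IsLift q g b') : b' = b + m (α i) U (h.diff h') :=
  (h.exists_eq h').choose_spec

theorem diff_eq (h : IsLift q g b) (h' : IsLift q g b') {s : Γs (F i) U} (e : b' = b + m (α i) U s) : h.diff h' = s := by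
  apply α_injective
  exact add_left_cancel ((h.diff_spec h').symm.trans e)

theorem of_r {Z' : Over X} {k : Z' ⟶ Z} {g : U ⟶ Z'} (h : IsLift (r (Q i) k q) g b) : IsLift q (g ≫ k) b := by
  rw [IsLift, h, r_r]

theorem to_r {Z' : Over X} {k : Z' ⟶ Z} {g : U ⟶ Z'} (h : IsLift q (g ≫ k) b) : IsLift (r (Q i) k q) g b := by
  rw [IsLift, h, r_r]

end IsLift

theorem isLift_id {Z : Over X} {q : Γs (Q i) Z} {b : Γs (I i) Z} (h : m (β i) Z b = q) : IsLift q (𝟙 Z) b := by
  rw [IsLift, h, r_id]

theorem isLift_of {Z : Over X} {q : Γs (Q i) Z} {b : Γs (I i) Z} (h : m (β i) Z b = q) {U : Over X} (g : U ⟶ Z) :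
    IsLift q g (r (I i) g b) := by
  rw [IsLift, m_r, h]

/-- The covering family of all local lifts of `q`. -/
theorem isCov_lifts {Z : Over X} (q : Γs (Q i) Z) :
    IsCov (fun a : (Σ V : Over X, {p : (V ⟶ Z) × Γs (I i) V // IsLift q p.1 p.2}) => a.2.1.1) := by
  intro x
  obtain ⟨V, g, b, h1, h2, h3, h4⟩ := exists_β q x
  exact ⟨⟨V, (g, b), h4⟩, h1, h2, h3⟩

/-- Pull back of a covering family. -/
theorem isCov_pull {Z : Over X} {ι : Type*} {V : ι → Over X} {g : ∀ a, V a ⟶ Z} (hg : IsCov g) {U : Over X} (k : U ⟶ Z) :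
    IsCov (fun x : (Σ W : Over X, Σ w : W ⟶ U, Σ a : ι, {v : W ⟶ V a // w ≫ k = v ≫ g a}) => x.2.1) := by
  intro x
  obtain ⟨a, h1, h2, ⟨y, hy⟩⟩ := hg (k.left x)
  obtain ⟨P, p, p', e, hP, h3⟩ := exists_pb k (g a)
  obtain ⟨z, hz, -⟩ := h3 x y hy.symm
  exact ⟨⟨P, p, a, p', e⟩, MorphismProperty.of_isPullback (P := @Flat) hP.flip h1,
    MorphismProperty.of_isPullback (P := @LocallyOfFinitePresentation) hP.flip h2, z, hz⟩

/-- A section of the rigidified line bundle of `q`. -/
structure LSec {Z : Over X} (q : Γs (Q i) Z) where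
  val : ∀ {U : Over X} (g : U ⟶ Z) (b : Γs (I i) U), IsLift q g b → O U
  val_r : ∀ {U V : Over X} (g : U ⟶ Z) (k : V ⟶ U) (b : Γs (I i) U) (hb : IsLift q g b),
    val (k ≫ g) (r (I i) k b) (hb.res k) = ro k (val g b hb)
  val_add : ∀ {U : Over X} (g : U ⟶ Z) (b : Γs (I i) U) (hb : IsLift q g b) (s : Γs (F i) U),
    un i s * val g (b + m (α i) U s) (hb.add_α s) = val g b hb
  val_tr : ∀ {U : Over X} (g : U ⟶ Z) (b : Γs (I i) U) (hb : IsLift q g b), tr i U (val g b hb) = 1

namespace LSec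

variable {Z : Over X} {q q' : Γs (Q i) Z} (s : LSec q)

theorem val_congr {U : Over X} {g g' : U ⟶ Z} {b b' : Γs (I i) U} (hb : IsLift q g b) (hg : g = g') (h : b = b') :
    s.val g b hb = s.val g' b' (hg ▸ h ▸ hb) := by
  subst hg; subst h; rfl

theorem val_r' {U V : Over X} {g : U ⟶ Z} {g' : V ⟶ Z} (k : V ⟶ U) (hk : k ≫ g = g') (b : Γs (I i) U) (hb : IsLift q g b) :
    s.val g' (r (I i) k b) (hb.res' k hk) = ro k (s.val g b hb) := by
  subst hk
  exact s.val_r g k b hb

theorem val_add' {U : Over X} (g : U ⟶ Z) (b b' : Γs (I i) U) (hb : IsLift q g b) (hb' : IsLift q g b') (t : Γs (F i) U)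
    (h : b' = b + m (α i) U t) : un i t * s.val g b' hb' = s.val g b hb := by
  subst h
  exact s.val_add g b hb t

theorem val_add'' {U : Over X} (g : U ⟶ Z) (b b' : Γs (I i) U) (hb : IsLift q g b) (hb' : IsLift q g b') (t : Γs (F i) U)
    (h : b' = b + m (α i) U t) : s.val g b' hb' = un i (-t) * s.val g b hb := by
  rw [← s.val_add' g b b' hb hb' t h, ← mul_assoc, un_neg_mul, one_mul]

@[ext] theorem ext {s s' : LSec q} (h : ∀ {U : Over X} (g : U ⟶ Z) (b : Γs (I i) U) (hb : IsLift q g b), s.val g b hb = s'.val g b hb) :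
    s = s' := by
  cases s
  cases s'
  congr
  funext U g b hb
  exact h g b hb

/-- Pull back. -/
@[simps] def pull {Z' : Over X} (k : Z' ⟶ Z) : LSec (r (Q i) k q) where
  val g b hb := s.val (g ≫ k) b hb.of_r
  val_r g l b hb := s.val_r' l (Category.assoc _ _ _).symm b hb.of_r
  val_add g b hb t := s.val_add (g ≫ k) b hb.of_r t
  val_tr g b hb := s.val_tr _ _ _

/-- Transport along an equality. -/
@[simps] def cast (h : q = q') : LSec q' where
  val g b hb := s.val g b (h ▸ hb)
  val_r g l b hb := s.val_r _ _ _ _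
  val_add g b hb t := s.val_add _ _ _ _
  val_tr g b hb := s.val_tr _ _ _

/-- Shift by a section of `I`. -/
@[simps] def shift (a : Γs (I i) Z) (h : q' + m (β i) Z a = q) : LSec q' where
  val g b hb := s.val g (b + r (I i) g a) (by subst h; rw [IsLift, map_add, map_add, m_r, hb])
  val_r g l b hb := by
    rw [← s.val_r]
    apply s.val_congr _ rfl
    rw [map_add, r_r]
  val_add g b hb t := by
    apply s.val_add' g _ _ _ _ t
    abel
  val_tr g b hb := s.val_tr _ _ _

/-- Multiplication by a function `≡ 1` along `Y`. -/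
@[simps] def smul (f : O Z) (hf : tr i Z f = 1) : LSec q where
  val g b hb := ro g f * s.val g b hb
  val_r g l b hb := by rw [s.val_r, map_mul, ro_ro]
  val_add g b hb t := by rw [mul_left_comm, s.val_add]
  val_tr g b hb := by rw [map_mul, s.val_tr, tr_ro_eq_one i g f hf, one_mul]

/-- Affine combination. -/
@[simps] def comb (s' : LSec q) (f f' : O Z) (h : f + f' = 1) : LSec q where
  val g b hb := ro g f * s.val g b hb + ro g f' * s'.val g b hb
  val_r g l b hb := by rw [s.val_r, s'.val_r, map_add, map_mul, map_mul, ro_ro, ro_ro]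
  val_add g b hb t := by rw [mul_add, mul_left_comm, s.val_add, mul_left_comm, s'.val_add]
  val_tr g b hb := by
    rw [map_add, map_mul, map_mul, s.val_tr, s'.val_tr, mul_one, mul_one, ← map_add, ← map_add, h, map_one, map_one]

end LSec

/-- The section attached to a global lift and a function. -/
def chart {Z : Over X} {q : Γs (Q i) Z} (b₀ : Γs (I i) Z) (hb₀ : m (β i) Z b₀ = q) (f : O Z) (hf : tr i Z f = 1) : LSec q where
  val g b hb := un i (-((isLift_of hb₀ g).diff hb)) * ro g f
  val_r {U V} g k b hb := by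
    rw [map_mul, ← un_r, ro_ro, map_neg]
    congr 3
    apply IsLift.diff_eq
    have h3 := congrArg (r (I i) k) ((isLift_of hb₀ g).diff_spec hb)
    rwa [map_add, r_r, ← m_r] at h3
  val_add {U} g b hb s := by
    rw [← mul_assoc, ← un_add]
    congr 2
    have : (isLift_of hb₀ g).diff (hb.add_α s) = (isLift_of hb₀ g).diff hb + s := by
      apply IsLift.diff_eq
      rw [map_add, ← add_assoc, ← (isLift_of hb₀ g).diff_spec hb]
    rw [this]
    abel
  val_tr {U} g b hb := by
    rw [map_mul, tr_un, tr_ro_eq_one i g f hf, one_mul]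

theorem chart_val {Z : Over X} {q : Γs (Q i) Z} (b₀ : Γs (I i) Z) (hb₀ : m (β i) Z b₀ = q) (f : O Z) (hf : tr i Z f = 1)
    {U : Over X} (g : U ⟶ Z) (b : Γs (I i) U) (hb : IsLift q g b) (t : Γs (F i) U) (h : b = r (I i) g b₀ + m (α i) U t) :
    un i t * (chart b₀ hb₀ f hf).val g b hb = ro g f := by
  have h3 := (isLift_of hb₀ g).diff_eq hb h
  change un i t * (un i (-((isLift_of hb₀ g).diff hb)) * ro g f) = _
  rw [h3, ← mul_assoc, un_mul_neg, one_mul]

theorem chart_val_self {Z : Over X} {q : Γs (Q i) Z} (b₀ : Γs (I i) Z) (hb₀ : m (β i) Z b₀ = q) (f : O Z) (hf : tr i Z f = 1)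
    {U : Over X} (g : U ⟶ Z) (hb : IsLift q g (r (I i) g b₀)) : (chart b₀ hb₀ f hf).val g (r (I i) g b₀) hb = ro g f := by
  have := chart_val b₀ hb₀ f hf g _ hb 0 (by rw [map_zero, add_zero])
  rwa [un_zero, one_mul] at this

section Glue

variable {Z : Over X} {q : Γs (Q i) Z} {ι : Type*} {V : ι → Over X} {g : ∀ a, V a ⟶ Z} (hg : IsCov g)
  (s : ∀ a, LSec (r (Q i) (g a) q))
  (hs : ∀ (a b : ι) (W : Over X) (v : W ⟶ V a) (w : W ⟶ V b) (h : v ≫ g a = w ≫ g b) (c : Γs (I i) W)
    (hc : IsLift q (v ≫ g a) c), (s a).val v c hc.to_r = (s b).val w c (h ▸ hc).to_r)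

include hg hs in
theorem glue_aux {U : Over X} (k : U ⟶ Z) (b : Γs (I i) U) (hb : IsLift q k b) :
    ∃ t : O U, ∀ (W : Over X) (w : W ⟶ U) (a : ι) (v : W ⟶ V a) (h : w ≫ k = v ≫ g a),
      ro w t = (s a).val v (r (I i) w b) (hb.res' w h).to_r := by
  obtain ⟨t, ht⟩ := glueO (isCov_pull hg k) (fun x => (s x.2.2.1).val x.2.2.2.1 (r (I i) x.2.1 b) (hb.res' x.2.1 x.2.2.2.2).to_r) (by
    rintro ⟨W, w, a, v, h⟩ ⟨W', w', a', v', h'⟩ T x y hxy
    dsimp only at hxy ⊢
    rw [← (s a).val_r, ← (s a').val_r]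
    have e : (x ≫ v) ≫ g a = (y ≫ v') ≫ g a' := by
      rw [Category.assoc, ← h, Category.assoc, ← h', ← Category.assoc, hxy, Category.assoc]
    have e2 : r (I i) x (r (I i) w b) = r (I i) y (r (I i) w' b) := by rw [r_r, r_r, hxy]
    rw [hs a a' T (x ≫ v) (y ≫ v') e (r (I i) x (r (I i) w b)) ((hb.res' w h).to_r.res x).of_r]
    exact (s a').val_congr _ rfl e2)
  exact ⟨t, fun W w a v h => ht ⟨W, w, a, v, h⟩⟩

include hg in
theorem glue_uniq {U : Over X} (k : U ⟶ Z) (t t' : O U) 
    (h : ∀ (W : Over X) (w : W ⟶ U) (a : ι) (v : W ⟶ V a) (_ : w ≫ k = v ≫ g a), ro w t = ro w t') : t = t' :=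
  sepO (isCov_pull hg k) t t' (fun x => h x.1 x.2.1 x.2.2.1 x.2.2.2.1 x.2.2.2.2)

include hg in
/-- Triviality along `Y` is local. -/
theorem tr_local {U : Over X} (k : U ⟶ Z) (t : O U)
    (h : ∀ (W : Over X) (w : W ⟶ U) (a : ι) (v : W ⟶ V a) (_ : w ≫ k = v ≫ g a), tr i W (ro w t) = 1) : tr i U t = 1 := by
  let U' : Over X := Over.mk (pullback.fst U.hom i ≫ U.hom)
  let p : U' ⟶ U := Over.homMk (pullback.fst U.hom i) rfl
  have key : ro p t = 1 := by
    apply glue_uniq hg (p ≫ k)
    intro W w a v e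
    rw [ro_ro, map_one]
    have e' : (w ≫ p) ≫ k = v ≫ g a := (Category.assoc _ _ _).trans e
    have h1 := h W (w ≫ p) a v e'
    -- `W ⟶ U ×_X Y` factors through `W ×_X Y`
    let l : W.left ⟶ pullback W.hom i := pullback.lift (𝟙 _) (w.left ≫ pullback.snd U.hom i) (by
      rw [Category.id_comp, Category.assoc, ← pullback.condition]
      exact (Over.w w).symm)
    have hl : l ≫ pullback.fst W.hom i = 𝟙 _ := pullback.lift_fst _ _ _
    have h2 : ∀ f : O W, l.appTop.hom (tr i W f) = f := by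
      intro f
      have h3 := congrArg (fun φ => (Scheme.Hom.appTop φ).hom f) hl
      simp only [Scheme.Hom.comp_appTop] at h3
      refine h3.trans ?_
      simp
    rw [← h2 (ro (w ≫ p) t), h1, map_one]
  exact key

/-- Gluing of sections of line bundles. -/
def glue : LSec q where
  val k b hb := (glue_aux hg s hs k b hb).choose
  val_r {U U'} k l b hb := by
    apply glue_uniq hg (l ≫ k)
    intro W w a v h
    rw [(glue_aux hg s hs (l ≫ k) _ (hb.res l)).choose_spec W w a v h, ro_ro,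
      (glue_aux hg s hs k b hb).choose_spec W (w ≫ l) a v ((Category.assoc _ _ _).trans h)]
    exact (s a).val_congr _ rfl (r_r _ _ _ _)
  val_add {U} k b hb t := by
    apply glue_uniq hg k
    intro W w a v h
    rw [map_mul, (glue_aux hg s hs k _ (hb.add_α t)).choose_spec W w a v h, 
      (glue_aux hg s hs k b hb).choose_spec W w a v h, ← un_r]
    apply (s a).val_add'
    rw [map_add, m_r]
  val_tr {U} k b hb := by
    apply tr_local hg k
    intro W w a v h
    rw [(glue_aux hg s hs k b hb).choose_spec W w a v h, (s a).val_tr]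

theorem glue_val {U : Over X} (k : U ⟶ Z) (b : Γs (I i) U) (hb : IsLift q k b) (a : ι) (v : U ⟶ V a) (h : k = v ≫ g a) :
    (glue hg s hs).val k b hb = (s a).val v b (h ▸ hb).to_r := by
  have h1 := (glue_aux hg s hs k b hb).choose_spec U (𝟙 U) a v ((Category.id_comp _).trans h)
  rw [ro_id] at h1
  exact h1.trans ((s a).val_congr _ rfl (r_id _ _))

end Glue

end Groth.Agent.Etdl.H432.LS
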