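import Groth.Prelude.Def_EtDlF
import Groth.Agent.Etrest.BigEtDescent
import Groth.Agent.Etcore.ZU

/-!
# Elementwise toolkit for sheaves on the big fppf site

* `Γs H U` sections, `r H g` restriction, `m φ U` action of morphisms.
* `IsCov g`: a family of flat, locally finitely presented, jointly surjective morphisms.
* `sep`, `glue` for abelian sheaves; `sepO`, `glueO` for global functions.
* `exists_lift` local lifting along an epimorphism.
-/

set_option autoImplicit false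
universe u
open CategoryTheory CategoryTheory.Limits AlgebraicGeometry Opposite

noncomputable section

namespace Groth.Agent.Etdl.H432.Sec

variable {X : Scheme.{u}}

/-- Sections. -/
abbrev Γs (H : EtFppf.AbF X) (U : Over X) : Type (u + 1) := H.obj.obj (op U)

/-- Restriction. -/
def r (H : EtFppf.AbF X) {U V : Over X} (g : V ⟶ U) : Γs H U →+ Γs H V := (H.obj.map g.op).hom

/-- Action of a morphism of sheaves. -/
def m {H H' : EtFppf.AbF X} (φ : H ⟶ H') (U : Over X) : Γs H U →+ Γs H' U := (φ.hom.app (op U)).hom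

theorem r_apply (H : EtFppf.AbF X) {U V : Over X} (g : V ⟶ U) (s : Γs H U) : r H g s = H.obj.map g.op s := rfl

theorem m_apply {H H' : EtFppf.AbF X} (φ : H ⟶ H') (U : Over X) (s : Γs H U) : m φ U s = φ.hom.app (op U) s := rfl

@[simp] theorem r_id (H : EtFppf.AbF X) {U : Over X} (s : Γs H U) : r H (𝟙 U) s = s := by
  rw [r_apply, op_id, CategoryTheory.Functor.map_id]
  rfl

theorem r_r (H : EtFppf.AbF X) {U V W : Over X} (g : V ⟶ U) (h : W ⟶ V) (s : Γs H U) :
    r H h (r H g s) = r H (h ≫ g) s := by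
  rw [r_apply, r_apply, r_apply, op_comp, CategoryTheory.Functor.map_comp]
  rfl

theorem r_congr (H : EtFppf.AbF X) {U V : Over X} {g g' : V ⟶ U} (h : g = g') (s : Γs H U) :
    r H g s = r H g' s := by rw [h]

theorem m_r {H H' : EtFppf.AbF X} (φ : H ⟶ H') {U V : Over X} (g : V ⟶ U) (s : Γs H U) :
    m φ V (r H g s) = r H' g (m φ U s) :=
  ConcreteCategory.congr_hom (φ.hom.naturality g.op) s

@[simp] theorem m_comp {H H' H'' : EtFppf.AbF X} (φ : H ⟶ H') (ψ : H' ⟶ H'') (U : Over X) (s : Γs H U) :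
    m (φ ≫ ψ) U s = m ψ U (m φ U s) := rfl

@[simp] theorem m_id {H : EtFppf.AbF X} (U : Over X) (s : Γs H U) : m (𝟙 H) U s = s := rfl

@[simp] theorem m_zero {H H' : EtFppf.AbF X} (U : Over X) (s : Γs H U) : m (0 : H ⟶ H') U s = 0 := rfl

/-! ### Coverings -/

/-- Jointly surjective family of flat locally finitely presented morphisms. -/
def IsCov {U : Over X} {ι : Type*} {V : ι → Over X} (g : ∀ i, V i ⟶ U) : Prop :=
  ∀ x : U.left, ∃ i, Flat (g i).left ∧ LocallyOfFinitePresentation (g i).left ∧ x ∈ Set.range (g i).left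

/-- Restriction of a family to its members which are flat and locally of finite presentation is a covering. -/
theorem IsCov.mem_J {U : Over X} {ι : Type*} {V : ι → Over X} {g : ∀ i, V i ⟶ U} (h : IsCov g) :
    Sieve.ofArrows V g ∈ EtFppf.J X U := by
  rw [Etrest.BigEtSite.mem_J_iff]
  intro x
  obtain ⟨i, h1, h2, h3⟩ := h x
  exact ⟨V i, g i, Sieve.ofArrows_mk _ _ i, h1, h2, h3⟩

theorem isCov_of_mem {U : Over X} {R : Sieve U} (hR : R ∈ EtFppf.J X U) :
    IsCov (fun a : (Σ V : Over X, {g : V ⟶ U // R g}) => a.2.1) := by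
  intro x
  obtain ⟨V, g, h, h1, h2, h3⟩ := Etrest.BigEtSite.mem_J_iff.1 hR x
  exact ⟨⟨V, g, h⟩, h1, h2, h3⟩

theorem isSheaf_type (H : EtFppf.AbF X) :
    Presieve.IsSheaf (EtFppf.J X) (H.obj ⋙ forget AddCommGrpCat.{u + 1}) :=
  (isSheaf_iff_isSheaf_of_type _ _).1
    (Presheaf.isSheaf_comp_of_isSheaf (EtFppf.J X) H.obj (forget AddCommGrpCat.{u + 1}) H.property)

section General

variable {P : (Over X)ᵒᵖ ⥤ Type*} 

theorem sepP (hP : Presieve.IsSheaf (EtFppf.J X) P) {U : Over X} {ι : Type*} {V : ι → Over X} {g : ∀ i, V i ⟶ U} (h : IsCov g) (s t : P.obj (op U))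
    (hst : ∀ i, P.map (g i).op s = P.map (g i).op t) : s = t := by
  refine (hP.isSeparated _ h.mem_J).ext ?_
  rintro W f ⟨Z, a, b, ⟨i⟩, rfl⟩
  rw [op_comp, CategoryTheory.Functor.map_comp]
  exact congrArg (P.map a.op) (hst i)

theorem glueP (hP : Presieve.IsSheaf (EtFppf.J X) P) {U : Over X} {ι : Type*} {V : ι → Over X} {g : ∀ i, V i ⟶ U} (h : IsCov g) (s : ∀ i, P.obj (op (V i)))
    (hs : ∀ (i j : ι) (Z : Over X) (a : Z ⟶ V i) (b : Z ⟶ V j), a ≫ g i = b ≫ g j → P.map a.op (s i) = P.map b.op (s j)) :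
    ∃ t : P.obj (op U), ∀ i, P.map (g i).op t = s i := by
  have hsh := hP _ h.mem_J
  rw [Sieve.ofArrows, ← Presieve.isSheafFor_iff_generate, Presieve.isSheafFor_arrows_iff] at hsh
  obtain ⟨τ, hτ, -⟩ := hsh s (fun i j Z a b hab => hs i j Z a b hab)
  exact ⟨τ, hτ⟩

end General

/-- Sections of an abelian sheaf which agree locally are equal. -/
theorem sep (H : EtFppf.AbF X) {U : Over X} {ι : Type*} {V : ι → Over X} {g : ∀ i, V i ⟶ U} (h : IsCov g)
    (s t : Γs H U) (hst : ∀ i, r H (g i) s = r H (g i) t) : s = t :=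
  sepP (isSheaf_type H) h s t hst

/-- Gluing of sections. -/
theorem glue (H : EtFppf.AbF X) {U : Over X} {ι : Type*} {V : ι → Over X} {g : ∀ i, V i ⟶ U} (h : IsCov g)
    (s : ∀ i, Γs H (V i))
    (hs : ∀ (i j : ι) (Z : Over X) (a : Z ⟶ V i) (b : Z ⟶ V j), a ≫ g i = b ≫ g j → r H a (s i) = r H b (s j)) :
    ∃ t : Γs H U, ∀ i, r H (g i) t = s i :=
  glueP (isSheaf_type H) h s hs

/-- Pointwise version of separatedness. -/
theorem ext_local (H : EtFppf.AbF X) {U : Over X} (s t : Γs H U)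
    (hst : ∀ x : U.left, ∃ (V : Over X) (g : V ⟶ U), Flat g.left ∧ LocallyOfFinitePresentation g.left ∧
      x ∈ Set.range g.left ∧ r H g s = r H g t) : s = t := by
  choose V g h1 h2 h3 h4 using hst
  exact sep H (V := V) (g := g) (fun x => ⟨x, h1 x, h2 x, h3 x⟩) s t h4

/-! ### Functions -/

/-- Global functions. -/
abbrev O (U : Over X) : Type u := Γ(U.left, ⊤)

/-- Restriction of functions. -/
def ro {U V : Over X} (g : V ⟶ U) : O U →+* O V := g.left.appTop.hom

@[simp] theorem ro_id {U : Over X} (f : O U) : ro (𝟙 U) f = f := by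
  change (𝟙 U.left : U.left ⟶ U.left).appTop.hom f = f
  simp

theorem ro_ro {U V W : Over X} (g : V ⟶ U) (h : W ⟶ V) (f : O U) : ro h (ro g f) = ro (h ≫ g) f := by
  change h.left.appTop.hom (g.left.appTop.hom f) = (h ≫ g).left.appTop.hom f
  rw [Over.comp_left, Scheme.Hom.comp_appTop]
  rfl

theorem ro_congr {U V : Over X} {g g' : V ⟶ U} (h : g = g') (f : O U) : ro g f = ro g' f := by rw [h]

/-- The presheaf of sets of global functions. -/
abbrev OP (X : Scheme.{u}) : (Over X)ᵒᵖ ⥤ Type u := (Over.forget X).op ⋙ Scheme.Γ.{u} ⋙ forget CommRingCat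

theorem isSheaf_OP : Presieve.IsSheaf (EtFppf.J X) (OP X) := by
  have h := ((Over.forget X).op_comp_isSheaf (EtFppf.J X) Scheme.fppfTopology
    (⟨Scheme.Γ.{u} ⋙ forget CommRingCat, EtDl.isSheaf_Γ_forget_fppf⟩ : Sheaf _ _))
  exact (isSheaf_iff_isSheaf_of_type _ _).1 h

theorem sepO {U : Over X} {ι : Type*} {V : ι → Over X} {g : ∀ i, V i ⟶ U} (h : IsCov g)
    (s t : O U) (hst : ∀ i, ro (g i) s = ro (g i) t) : s = t :=
  sepP isSheaf_OP h s t hst

theorem glueO {U : Over X} {ι : Type*} {V : ι → Over X} {g : ∀ i, V i ⟶ U} (h : IsCov g)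
    (s : ∀ i, O (V i))
    (hs : ∀ (i j : ι) (Z : Over X) (a : Z ⟶ V i) (b : Z ⟶ V j), a ≫ g i = b ≫ g j → ro a (s i) = ro b (s j)) :
    ∃ t : O U, ∀ i, ro (g i) t = s i :=
  glueP isSheaf_OP h s hs

/-- Local lifting along an epimorphism. -/
theorem exists_lift {H H' : EtFppf.AbF X} (φ : H ⟶ H') [Epi φ] {U : Over X} (t : Γs H' U) (x : U.left) :
    ∃ (V : Over X) (g : V ⟶ U) (s : Γs H V), Flat g.left ∧ LocallyOfFinitePresentation g.left ∧
      x ∈ Set.range g.left ∧ m φ V s = r H' g t := by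
  have hp : Sheaf.IsLocallySurjective φ := by
    rw [Sheaf.isLocallySurjective_iff_epi']
    infer_instance
  obtain ⟨V, g, ⟨s, hs⟩, h1, h2, h3⟩ := Etrest.BigEtSite.mem_J_iff.1 (Presheaf.imageSieve_mem (EtFppf.J X) φ.hom t) x
  exact ⟨V, g, s, h1, h2, h3, hs⟩

/-- Pullback of covering families. -/
theorem exists_pb {T Z Z' : Over X} (g : Z ⟶ T) (g' : Z' ⟶ T) : ∃ (P : Over X) (p : P ⟶ Z) (q : P ⟶ Z'),
    p ≫ g = q ≫ g' ∧ IsPullback p.left q.left g.left g'.left ∧
      ∀ (z : Z.left) (z' : Z'.left), g.left z = g'.left z' → ∃ y : P.left, p.left y = z ∧ q.left y = z' :=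
  Etrest.BigEtSite.exists_pb g g'

end Groth.Agent.Etdl.H432.Sec
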