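import Groth.Agent.Etdl.H432.Sec

/-!
# Sections of `G_m(m)` as units

For `i : Y ⟶ X`, `F = GmMod i`: `un s : O U` the unit attached to `s ∈ F(U)`; `tr i U : O U →+* Γ(U ×_X Y)`;
`F(U)` is the set of units `f` with `tr f = 1`.
-/

set_option autoImplicit false
universe u
open CategoryTheory CategoryTheory.Limits AlgebraicGeometry Opposite

noncomputable section

namespace Groth.Agent.Etdl.H432.Un

open Sec

variable {X Y : Scheme.{u}} (i : Y ⟶ X)

/-- Restriction of functions to `U ×_X Y`. -/
def tr (U : Over X) : O U →+* Γ(pullback U.hom i, ⊤) := (pullback.fst U.hom i).appTop.hom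

/-- The map `V ×_X Y ⟶ U ×_X Y`. -/
def mapY {U V : Over X} (g : V ⟶ U) : pullback V.hom i ⟶ pullback U.hom i :=
  pullback.map _ _ _ _ g.left (𝟙 _) (𝟙 _) (by simp) (by simp)

theorem mapY_fst {U V : Over X} (g : V ⟶ U) : mapY i g ≫ pullback.fst U.hom i = pullback.fst V.hom i ≫ g.left :=
  pullback.lift_fst _ _ _

theorem tr_ro {U V : Over X} (g : V ⟶ U) (f : O U) : tr i V (ro g f) = (mapY i g).appTop.hom (tr i U f) := by
  change (pullback.fst V.hom i).appTop.hom (g.left.appTop.hom f) = (mapY i g).appTop.hom ((pullback.fst U.hom i).appTop.hom f)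
  have h1 := congrArg (fun φ => (Scheme.Hom.appTop φ).hom f) (mapY_fst i g)
  simp only [Scheme.Hom.comp_appTop] at h1
  exact h1.symm

theorem tr_ro_eq_one {U V : Over X} (g : V ⟶ U) (f : O U) (h : tr i U f = 1) : tr i V (ro g f) = 1 := by
  rw [tr_ro, h, map_one]

/-- The unit attached to a section of `G_m`. -/
def gm {U : Over X} (s : Γs (EtDl.GmF X) U) : (O U)ˣ := Additive.toMul (ULift.down s)

theorem gm_add {U : Over X} (s t : Γs (EtDl.GmF X) U) : gm (s + t) = gm s * gm t := rfl

theorem gm_zero {U : Over X} : gm (0 : Γs (EtDl.GmF X) U) = 1 := rfl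

theorem gm_r {U V : Over X} (g : V ⟶ U) (s : Γs (EtDl.GmF X) U) :
    (gm (r (EtDl.GmF X) g s) : O V) = ro g (gm s : O U) := rfl

theorem gm_injective {U : Over X} : Function.Injective (gm : Γs (EtDl.GmF X) U → (O U)ˣ) := fun _ _ h => 
  ULift.down_injective (Additive.toMul.injective h)

theorem gm_surjective {U : Over X} : Function.Surjective (gm : Γs (EtDl.GmF X) U → (O U)ˣ) := fun u =>
  ⟨ULift.up (Additive.ofMul u), rfl⟩

/-- The sheaf `G_m(m)`. -/
abbrev F : EtFppf.AbF X := EtDl.GmMod i

/-- The inclusion in `G_m`. -/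
def incl : F i ⟶ EtDl.GmF X := kernel.ι (EtDl.resGmF i)

instance : Mono (incl i) := inferInstanceAs (Mono (kernel.ι (EtDl.resGmF i)))

theorem incl_res : incl i ≫ EtDl.resGmF i = 0 := kernel.condition _

/-- The unit attached to a section of `G_m(m)`. -/
def un {U : Over X} (s : Γs (F i) U) : O U := (gm (m (incl i) U s) : O U)

variable {i}

theorem un_add {U : Over X} (s t : Γs (F i) U) : un i (s + t) = un i s * un i t := by
  rw [un, map_add, gm_add, Units.val_mul]
  rfl

theorem un_zero {U : Over X} : un i (0 : Γs (F i) U) = 1 := by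
  rw [un, map_zero, gm_zero, Units.val_one]

theorem un_neg_mul {U : Over X} (s : Γs (F i) U) : un i (-s) * un i s = 1 := by
  rw [← un_add, neg_add_cancel, un_zero]

theorem un_mul_neg {U : Over X} (s : Γs (F i) U) : un i s * un i (-s) = 1 := by
  rw [← un_add, add_neg_cancel, un_zero]

theorem isUnit_un {U : Over X} (s : Γs (F i) U) : IsUnit (un i s) := Units.isUnit _

theorem un_r {U V : Over X} (g : V ⟶ U) (s : Γs (F i) U) : un i (r (F i) g s) = ro g (un i s) := by
  rw [un, m_r, gm_r]
  rfl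

theorem un_nsmul {U : Over X} (n : ℕ) (s : Γs (F i) U) : un i (n • s) = un i s ^ n := by
  induction n with
  | zero => rw [zero_nsmul, un_zero, pow_zero]
  | succ n ih => rw [succ_nsmul, un_add, ih, pow_succ]

theorem mono_injective {H H' : EtFppf.AbF X} (φ : H ⟶ H') [Mono φ] (U : Over X) : Function.Injective (m φ U) := by
  intro s t h
  let g := Etcore.ZU.isGen_gen.{u+1} (J := EtFppf.J X) U
  have h1 : g.desc s ≫ φ = g.desc t ≫ φ := by
    rw [g.desc_comp, g.desc_comp]
    exact congrArg g.desc h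
  have h2 := (cancel_mono _).1 h1
  have h3 := congrArg (fun φ => φ.hom.app (op U) (Etcore.ZU.gen.{u+1} (EtFppf.J X) U)) h2
  simp only [g.desc_app] at h3
  exact h3

theorem un_injective {U : Over X} : Function.Injective (un i : Γs (F i) U → O U) := fun _ _ h =>
  mono_injective (incl i) U (gm_injective (Units.ext h))

theorem gm_res {U : Over X} (s : Γs (EtDl.GmF X) U) :
    (gm (U := (Over.pullback i).obj U) (m (EtDl.resGmF i) U s) : O ((Over.pullback i).obj U)) = tr i U (gm s : O U) := rfl

theorem tr_un {U : Over X} (s : Γs (F i) U) : tr i U (un i s) = 1 := by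
  rw [un, ← gm_res]
  have h : m (EtDl.resGmF i) U (m (incl i) U s) = 0 := by
    rw [← m_comp, incl_res, m_zero]
  rw [h]
  rfl

theorem exists_un {U : Over X} (f : O U) (hf : IsUnit f) (h : tr i U f = 1) : ∃ s : Γs (F i) U, un i s = f := by
  obtain ⟨v, rfl⟩ := hf
  obtain ⟨t, rfl⟩ := gm_surjective v
  let g := Etcore.ZU.isGen_gen.{u+1} (J := EtFppf.J X) U
  have h1 : m (EtDl.resGmF i) U t = 0 := by
    have : gm (U := (Over.pullback i).obj U) (m (EtDl.resGmF i) U t) = 1 := by
      apply Units.ext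
      exact h
    exact gm_injective (U := (Over.pullback i).obj U) this
  have h2 : g.desc t ≫ EtDl.resGmF i = 0 := by
    apply g.hom_ext
    rw [g.desc_comp, g.desc_app]
    exact h1
  let l := kernel.lift (EtDl.resGmF i) (g.desc t) h2
  refine ⟨l.hom.app (op U) (Etcore.ZU.gen.{u+1} (EtFppf.J X) U), ?_⟩
  have h3 : m (incl i) U (l.hom.app (op U) (Etcore.ZU.gen.{u+1} (EtFppf.J X) U)) = t := by
    have h4 : l ≫ kernel.ι (EtDl.resGmF i) = g.desc t := kernel.lift_ι _ _ _
    have h5 := congrArg (fun φ => φ.hom.app (op U) (Etcore.ZU.gen.{u+1} (EtFppf.J X) U)) h4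
    simp only [g.desc_app] at h5
    exact h5
  rw [un, h3]

end Groth.Agent.Etdl.H432.Un
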